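/-
Four primes pairwise joined: a group with two primes acting on two modules.
-/
import Cfsg.Agent.Lib.FourP.Sit
import Cfsg.Agent.Lib.Coprime.FrobCountGroup

set_option autoImplicit false
set_option linter.style.haveILetI false
set_option linter.unusedSectionVars false
set_option linter.unusedVariables false

namespace Cfsg.Agent.Lib.FourP

open Module Cfsg Subgroup
open Cfsg.Agent.Lib.Coprime.Action Cfsg.Agent.Lib.Coprime.Abelian
open Cfsg.Agent.Lib.HallHigman.FixedPoints
open Cfsg.Agent.Lib.Core.Basic Cfsg.Agent.Lib.Solvable.Fitting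
open scoped commutatorElement Pointwise

universe u v

section Two

variable {T : Type u} [Group T] [Finite T] {s₁ s₂ : ℕ} [hs₁ : Fact s₁.Prime] [hs₂ : Fact s₂.Prime]
  {V₁ : Type v} [AddCommGroup V₁] [Module (ZMod s₁) V₁]
  {V₂ : Type v} [AddCommGroup V₂] [Module (ZMod s₂) V₂]

/-- The situation with two primes and two modules. -/
structure TwoSit (ρ₁ : T →* End (ZMod s₁) V₁) (ρ₂ : T →* End (ZMod s₂) V₂) (q r : ℕ) : Prop where
  qp : q.Prime
  rp : r.Prime
  qr : q ≠ r
  pi : ∀ t : ℕ, t.Prime → t ∣ Nat.card T → t = q ∨ t = r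
  dq : q ∣ Nat.card T
  dr : r ∣ Nat.card T
  s1q : s₁ ≠ q
  s1r : s₁ ≠ r
  s2q : s₂ ≠ q
  s2r : s₂ ≠ r
  inj : ∀ g : T, ρ₁ g = 1 → ρ₂ g = 1 → g = 1
  free₁ : ∀ x y : T, orderOf x = q → orderOf y = r → x * y = y * x → ∀ v, ρ₁ x v = v → ρ₁ y v = v → v = 0
  free₂ : ∀ x y : T, orderOf x = q → orderOf y = r → x * y = y * x → ∀ v, ρ₂ x v = v → ρ₂ y v = v → v = 0
  both : ∀ t : T, (orderOf t = q ∨ orderOf t = r) → Free ρ₁ t ∨ Free ρ₂ t
  rank : ∀ e : ℕ, (e = q ∨ e = r) → ∀ x : T, orderOf x = e → ∃ y, NC e x y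

variable {ρ₁ : T →* End (ZMod s₁) V₁} {ρ₂ : T →* End (ZMod s₂) V₂} {q r : ℕ}

theorem TwoSit.swap (h : TwoSit ρ₁ ρ₂ q r) : TwoSit ρ₂ ρ₁ q r where
  qp := h.qp
  rp := h.rp
  qr := h.qr
  pi := h.pi
  dq := h.dq
  dr := h.dr
  s1q := h.s2q
  s1r := h.s2r
  s2q := h.s1q
  s2r := h.s1r
  inj := fun g h₂ h₁ => h.inj g h₁ h₂
  free₁ := h.free₂
  free₂ := h.free₁
  both := fun t ht => (h.both t ht).symm
  rank := h.rank

/-- The two primes exchanged. -/
theorem TwoSit.flip (h : TwoSit ρ₁ ρ₂ q r) : TwoSit ρ₁ ρ₂ r q where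
  qp := h.rp
  rp := h.qp
  qr := h.qr.symm
  pi := fun t ht hd => (h.pi t ht hd).symm
  dq := h.dr
  dr := h.dq
  s1q := h.s1r
  s1r := h.s1q
  s2q := h.s2r
  s2r := h.s2q
  inj := h.inj
  free₁ := fun x y hx hy hxy v h1 h2 => h.free₁ y x hy hx hxy.symm v h2 h1
  free₂ := fun x y hx hy hxy v h1 h2 => h.free₂ y x hy hx hxy.symm v h2 h1
  both := fun t ht => h.both t ht.symm
  rank := fun e he => h.rank e he.symm

/-- Fixed vectors of elements commuting with a non-cyclic pair of order `q`. -/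
theorem TwoSit.fixNC [Finite V₁] (h : TwoSit ρ₁ ρ₂ q r) {x₁ x₂ y : T} (hx : NC q x₁ x₂)
    (hy : orderOf y = r) (h₁ : y * x₁ = x₁ * y) (h₂ : y * x₂ = x₂ * y) : Free ρ₁ y := by
  by_contra hcon
  unfold Free at hcon
  push Not at hcon
  obtain ⟨v, hv, hv0⟩ := hcon
  let S : Submodule (ZMod s₁) V₁ := LinearMap.ker (ρ₁ y - 1)
  have hmem : ∀ u, u ∈ S ↔ ρ₁ y u = u := by
    intro u
    simp [S, LinearMap.mem_ker, sub_eq_zero]
  have hS0 : S ≠ ⊥ := by
    intro h
    have : v ∈ S := (hmem v).mpr hv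
    rw [h] at this
    exact hv0 ((Submodule.mem_bot _).mp this)
  have hcomm : ∀ e ∈ EE x₁ x₂, y * e = e * y := fun e he => comm_EE h₁ h₂ he
  obtain ⟨c, hcE, hc1, u, huS, hu0, hcu⟩ := exists_fixed_of_not_cyclic ρ₁ (EE x₁ x₂)
    (fun p hp q hq => hx.comm_EE' hp hq) hx.not_cyclic S
    (by
      intro e he w hw
      rw [hmem] at hw ⊢
      have h1 : ρ₁ y (ρ₁ e w) = ρ₁ (y * e) w := by rw [map_mul]; rfl
      rw [h1, hcomm e he, map_mul]
      change ρ₁ e (ρ₁ y w) = _
      rw [hw]) hS0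
  have hco : orderOf c = q := hx.order h.qp hcE hc1
  exact hu0 (h.free₁ c y hco hy (hcomm c hcE).symm u hcu ((hmem u).mp huS))

/-- If all elements of order `q` and `r` commute, we have a contradiction. -/
theorem TwoSit.false_of_comm [Finite V₁] [Nontrivial V₁] (h : TwoSit ρ₁ ρ₂ q r)
    (hall : ∀ c d : T, orderOf c = q → orderOf d = r → d * c = c * d) : False := by
  haveI : Fact q.Prime := ⟨h.qp⟩
  haveI : Fact r.Prime := ⟨h.rp⟩
  obtain ⟨c₀, hc₀⟩ := exists_prime_orderOf_dvd_card' q h.dq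
  obtain ⟨d₀, hd₀⟩ := exists_prime_orderOf_dvd_card' r h.dr
  obtain ⟨c₁, hNCc⟩ := h.rank q (Or.inl rfl) c₀ hc₀
  obtain ⟨d₁, hNCd⟩ := h.rank r (Or.inr rfl) d₀ hd₀
  obtain ⟨b, hbE, hb1, hnf⟩ := exists_not_free (ρ := ρ₁) hNCd
  have hbo := hNCd.order h.rp hbE hb1
  exact hnf (h.fixNC hNCc hbo (hall _ _ hNCc.ox hbo) (hall _ _ hNCc.oy hbo))

/-- An element of order `q` (or `r`) which is not free on `V₁` is free on `V₂`. -/
theorem TwoSit.inj₁ [Finite V₁] [Finite V₂] [Nontrivial V₁] [Nontrivial V₂] [hsol : Group.IsSolvable T]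
    (h : TwoSit ρ₁ ρ₂ q r) : Function.Injective ρ₁ := by
  classical
  by_contra hni
  have hker : ρ₁.ker ≠ ⊥ := by
    intro hb
    exact hni ((MonoidHom.ker_eq_bot_iff ρ₁).mp hb)
  haveI : Fact q.Prime := ⟨h.qp⟩
  haveI : Fact r.Prime := ⟨h.rp⟩
  obtain ⟨A, hAk, hAn, hA1, ℓ, hℓ, hAe⟩ := Cfsg.Agent.Lib.Coprime.FrobCountGroup.exists_elem_normal
    ρ₁.ker inferInstance inferInstance hker
  haveI : Fact ℓ.Prime := ⟨hℓ⟩
  have hρA : ∀ a ∈ A, ρ₁ a = 1 := fun a ha => hAk ha
  have hApow : ∀ a ∈ A, a ^ ℓ = 1 := hAe.2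
  have hAc : ∀ a ∈ A, ∀ b ∈ A, a * b = b * a := by
    intro a ha b hb
    haveI := hAe.1
    exact congrArg Subtype.val (mul_comm' (⟨a, ha⟩ : A) ⟨b, hb⟩)
  have hAp : IsPGroup ℓ A := by
    intro a
    exact ⟨1, Subtype.ext (by simpa using hApow a a.2)⟩
  have hord : ∀ a ∈ A, a ≠ 1 → orderOf a = ℓ := fun a ha ha1 => orderOf_eq_prime (hApow a ha) ha1
  have hℓT : ℓ = q ∨ ℓ = r := by
    obtain ⟨y, hy, hy1⟩ : ∃ y ∈ A, y ≠ 1 := by
      obtain ⟨y, hy⟩ := (Subgroup.ne_bot_iff_exists_ne_one).mp hA1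
      exact ⟨y, y.2, fun h' => hy (Subtype.ext h')⟩
    have h1 := hord y hy hy1
    refine h.pi ℓ hℓ ?_
    rw [← h1]
    exact orderOf_dvd_natCard y
  have hℓs₂ : ℓ ≠ s₂ := by
    rcases hℓT with rfl | rfl
    · exact h.s2q.symm
    · exact h.s2r.symm
  -- `A` acts freely on `V₂`
  have hfree₂ : ∀ a ∈ A, a ≠ 1 → Free ρ₂ a := by
    intro a ha ha1
    have h1 := hord a ha ha1
    rcases h.both a (by
        rcases hℓT with e | e
        · exact Or.inl (h1.trans e)
        · exact Or.inr (h1.trans e)) with h2 | h2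
    · exfalso
      obtain ⟨w, hw⟩ := exists_ne (0 : V₁)
      apply hw
      apply h2
      rw [hρA a ha]
      rfl
    · exact h2
  -- `A` is cyclic
  have hAcyc : IsCyclic A := by
    by_contra hcon
    obtain ⟨b, hb, hb1, v, -, hv0, hbv⟩ := exists_fixed_of_not_cyclic ρ₂ A hAc hcon ⊤
      (fun _ _ _ _ => Submodule.mem_top) (by exact top_ne_bot)
    exact hv0 (hfree₂ b hb hb1 v hbv)
  obtain ⟨⟨y, hyA⟩, hgen⟩ := hAcyc.exists_generator
  have hAle : A ≤ zpowers y := by
    intro a ha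
    obtain ⟨k, hk⟩ := mem_zpowers_iff.mp (hgen ⟨a, ha⟩)
    refine mem_zpowers_iff.mpr ⟨k, ?_⟩
    simpa using congrArg Subtype.val hk
  have hy1 : y ≠ 1 := by
    rintro rfl
    apply hA1
    rw [eq_bot_iff]
    intro a ha
    have := hAle ha
    simpa using this
  have hyo : orderOf y = ℓ := hord y hyA hy1
  -- the other prime
  obtain ⟨t', ht', htℓ, hcases⟩ : ∃ t' : ℕ, (t' = q ∨ t' = r) ∧ t' ≠ ℓ ∧ t' ∣ Nat.card T := by
    rcases hℓT with rfl | rfl
    · exact ⟨r, Or.inr rfl, h.qr.symm, h.dr⟩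
    · exact ⟨q, Or.inl rfl, h.qr, h.dq⟩
  have ht'p : t'.Prime := by
    rcases ht' with rfl | rfl
    · exact h.qp
    · exact h.rp
  haveI : Fact t'.Prime := ⟨ht'p⟩
  obtain ⟨x₀, hx₀⟩ := exists_prime_orderOf_dvd_card' t' hcases
  obtain ⟨x₁, hNC⟩ := h.rank t' ht' x₀ hx₀
  obtain ⟨b, hbE, hb1, hnf⟩ := exists_not_free (ρ := ρ₁) hNC
  have hbo := hNC.order ht'p hbE hb1
  apply hnf
  by_cases hby : b * y = y * b
  · -- `b` commutes with `y`
    intro v hv
    have hyv : ρ₁ y v = v := by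
      rw [hρA y hyA]
      rfl
    rcases ht' with rfl | rfl
    · have hrr : ℓ = r := hℓT.resolve_left (fun h' => htℓ h'.symm)
      exact h.free₁ b y hbo (hyo.trans hrr) hby v hv hyv
    · have hqq : ℓ = q := hℓT.resolve_right (fun h' => htℓ h'.symm)
      exact h.free₁ y b (hyo.trans hqq) hbo hby.symm v hyv hv
  · -- `b` moves `y`
    rcases h.both b (by
        rcases ht' with e | e
        · exact Or.inl (hbo.trans e)
        · exact Or.inr (hbo.trans e)) with h2 | h2
    · exact h2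
    · exfalso
      have hfl := fl ρ₂ A (zpowers b) (zpowers_le.mpr (mem_normalizer_of_normal hAn b))
        (by
          intro z hz hz1 k hk hzk
          by_contra hk1
          have h3 : b * k = k * b := comm_of_mem_zpowers ht'p hbo hz hz1 hzk
          -- `y` is a power of `k`
          have hyk : y ∈ zpowers k := mem_zpowers_of_prime hℓ hyo (hAle hk) hk1
          exact hby (comm_of_zpow_comm h3.symm hyk).symm)
        (card_cast_ne_zero hℓs₂ hAp)
        (fun v hv => h2 v (hv b (mem_zpowers b)))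
      exact hy1 (h.inj y (hρA y hyA) (hfl y hyA))

/-- Elements of order `r` free on `V₁` centralize a `q`-group when `q` is odd. -/
theorem TwoSit.free_comm₁ [Finite V₁] [Finite V₂] [Nontrivial V₁] [Nontrivial V₂]
    [hsol : Group.IsSolvable T] (h : TwoSit ρ₁ ρ₂ q r) (hq2 : q ≠ 2) {x : T} (hx : orderOf x = r)
    (hf : Free ρ₁ x) {K : Subgroup T} (hK : IsPGroup q K) (hN : x ∈ normalizer (K : Set T)) :
    ∀ g ∈ K, x * g = g * x := by
  haveI : Fact q.Prime := ⟨h.qp⟩
  haveI : Fact r.Prime := ⟨h.rp⟩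
  haveI : FiniteDimensional (ZMod s₁) V₁ := Module.Finite.of_finite
  intro g hg
  have hq : ∀ t : ℕ, t.Prime → t ∣ Nat.card K → t = q := by
    intro t ht hd
    obtain ⟨n, hn⟩ := IsPGroup.iff_card.mp hK
    rw [hn] at hd
    exact (Nat.prime_dvd_prime_iff_eq ht h.qp).mp (ht.dvd_of_dvd_pow hd)
  have h1 := commute_of_free (F := ZMod s₁) (r := r) (cast_ne_zero_of_ne h.rp h.s1r.symm) ρ₁ x hx K hN
    (card_coprime_of_isPGroup hK ((Nat.coprime_primes h.rp h.qp).mpr h.qr.symm))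
    (fun t ht' hd => by
      rw [hq t ht' hd]
      exact cast_ne_zero_of_ne h.qp h.s1q.symm) hf
    (fun t m ht' hd hm => by
      rw [hq t ht' hd]
      exact exc_of_odd h.rp h.qp hq2 m hm) g hg
  have h2 := h.inj₁ h1
  calc x * g = (x * g * x⁻¹) * x := by group
    _ = g * x := by rw [h2]

/-- Elements of order `r` centralize `O_q` when `q` is odd. -/
theorem TwoSit.comm_core [Finite V₁] [Finite V₂] [Nontrivial V₁] [Nontrivial V₂]
    [hsol : Group.IsSolvable T] (h : TwoSit ρ₁ ρ₂ q r) (hq2 : q ≠ 2) {x : T} (hx : orderOf x = r) :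
    ∀ g ∈ pCore q T, x * g = g * x := by
  have hN : x ∈ normalizer ((pCore q T : Subgroup T) : Set T) :=
    mem_normalizer_of_normal inferInstance x
  rcases h.both x (Or.inr hx) with hf | hf
  · exact h.free_comm₁ hq2 hx hf pCore_isPGroup hN
  · exact h.swap.free_comm₁ hq2 hx hf pCore_isPGroup hN

/-- The case of odd primes. -/
theorem TwoSit.false_of_odd [Finite V₁] [Finite V₂] [Nontrivial V₁] [Nontrivial V₂]
    [hsol : Group.IsSolvable T] (h : TwoSit ρ₁ ρ₂ q r) (hq2 : q ≠ 2) (hr2 : r ≠ 2) : False := by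
  classical
  haveI : Fact q.Prime := ⟨h.qp⟩
  haveI : Fact r.Prime := ⟨h.rp⟩
  refine h.false_of_comm ?_
  intro d b hd hb
  -- `d` of order `q`, `b` of order `r`.
  have hcq : ∀ y : T, orderOf y = q → ∀ g ∈ pCore r T, y * g = g * y := fun y hy =>
    h.flip.comm_core hr2 hy
  have hcr : ∀ y : T, orderOf y = r → ∀ g ∈ pCore q T, y * g = g * y := fun y hy =>
    h.comm_core hq2 hy
  have hconj : ∀ (g y : T) (e : ℕ), orderOf y = e → orderOf (g * y * g⁻¹) = e := by
    intro g y e hy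
    rw [← hy]
    exact orderOf_injective (MulAut.conj g).toMonoidHom (MulAut.conj g).injective y
  have hcomm2 : ∀ {a b c : T}, a * c = c * a → b * c = c * b → (a * b) * c = c * (a * b) := by
    intro a b c h1 h2
    rw [mul_assoc, h2, ← mul_assoc, h1, mul_assoc]
  have hinvc : ∀ {a c : T}, a * c = c * a → a⁻¹ * c = c * a⁻¹ := by
    intro a c h1
    exact ((show Commute a c from h1).inv_left).eq
  set t := d * b * d⁻¹ * b⁻¹ with ht
  have ht1 : ∀ g ∈ pCore q T, t * g = g * t := by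
    intro g hg
    exact hcomm2 (hcr _ (hconj d b r hb) g hg) (hinvc (hcr b hb g hg))
  have ht2 : ∀ g ∈ pCore r T, t * g = g * t := by
    intro g hg
    have e : t = d * (b * d⁻¹ * b⁻¹) := by
      rw [ht]
      group
    rw [e]
    refine hcomm2 (hcq d hd g hg) ?_
    have h1 := hcq _ (hconj b d q hd) g hg
    have h2 := hinvc h1
    have e' : (b * d * b⁻¹)⁻¹ = b * d⁻¹ * b⁻¹ := by group
    rw [e'] at h2
    exact h2
  have hF : t ∈ fittingSubgroup T := by
    apply mem_fitting_of_centralizes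
    intro e he g hg
    by_cases heq : e = q
    · subst heq
      exact ht1 g hg
    by_cases her : e = r
    · subst her
      exact ht2 g hg
    · haveI : Fact e.Prime := ⟨he⟩
      have hO : pCore e T = ⊥ := pCore_eq_bot_of_not_dvd (fun hd' =>
        (h.pi e he hd').elim heq her)
      rw [hO, mem_bot] at hg
      rw [hg]
      simp
  have hle : fittingSubgroup T ≤ pCore r T ⊔ pCore q T := by
    rw [fittingSubgroup_eq_iSup_pCore]
    refine iSup_le fun e => ?_
    by_cases heq : (e : ℕ) = q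
    · rw [heq]
      exact le_sup_right
    by_cases her : (e : ℕ) = r
    · rw [her]
      exact le_sup_left
    · haveI : Fact (e : ℕ).Prime := ⟨e.2⟩
      have hO : pCore (e : ℕ) T = ⊥ := pCore_eq_bot_of_not_dvd (fun hd' =>
        (h.pi e e.2 hd').elim heq her)
      rw [hO]
      exact bot_le
  have hmem := hle hF
  rw [mem_sup_of_normal_right] at hmem
  obtain ⟨u, hu, w, hw, e⟩ := hmem
  have := comm_of_commutator_mem (A := pCore r T) (B := pCore q T) inferInstance h.qr.symm pCore_isPGroup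
    pCore_isPGroup hb hd (hcr b hb) (hcq d hd) (fun u hu w hw => core_comm h.rp h.qp h.qr.symm hu hw) hu hw
    e.symm
  exact this

/-- An involution free on a module is central. -/
theorem central_of_free_involution {s : ℕ} [Fact s.Prime] {V : Type v} [AddCommGroup V]
    [Module (ZMod s) V] {ρ : T →* End (ZMod s) V} (hinj : Function.Injective ρ) {v : T}
    (hvo : orderOf v = 2) (hfree : Free ρ v) (g : T) : g * v = v * g := by
  have hneg : ρ v = -1 := by
    ext w
    have h1 : ρ v (w + ρ v w) = w + ρ v w := by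
      rw [map_add, ← Module.End.mul_apply, ← map_mul, ← pow_two, ← hvo, pow_orderOf_eq_one, map_one]
      simp [add_comm]
    have h2 := hfree _ h1
    simpa [eq_neg_iff_add_eq_zero, add_comm] using h2
  have h1 : ρ (g * v * g⁻¹) = ρ v := by
    rw [map_mul, map_mul, hneg]
    have : ρ g * ρ g⁻¹ = 1 := by rw [← map_mul]; simp
    simp [this]
  have h3 := hinj h1
  calc g * v = (g * v * g⁻¹) * g := by group
    _ = v * g := by rw [h3]

/-- **The final contradiction for two primes.** -/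
theorem TwoSit.false [Finite V₁] [Finite V₂] [Nontrivial V₁] [Nontrivial V₂]
    [hsol : Group.IsSolvable T] (h : TwoSit ρ₁ ρ₂ q r) : False := by
  by_cases hq2 : q = 2
  · subst hq2
    refine h.false_of_comm ?_
    intro c d hc hd
    rcases h.both c (Or.inl hc) with hf | hf
    · exact central_of_free_involution h.inj₁ hc hf d
    · exact central_of_free_involution h.swap.inj₁ hc hf d
  by_cases hr2 : r = 2
  · subst hr2
    refine h.flip.false_of_comm ?_
    intro c d hc hd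
    rcases h.both c (Or.inr hc) with hf | hf
    · exact central_of_free_involution h.inj₁ hc hf d
    · exact central_of_free_involution h.swap.inj₁ hc hf d
  · exact h.false_of_odd hq2 hr2

end Two

end Cfsg.Agent.Lib.FourP
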