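/-
Four primes pairwise joined: Lucido's lemma and the main theorem.
-/
import Cfsg.Agent.Lib.FourP.CaseD
import Cfsg.Agent.Lib.FourP.Two

set_option autoImplicit false
set_option linter.style.haveILetI false
set_option linter.unusedSectionVars false
set_option linter.unusedVariables false

namespace Cfsg.Agent.Lib.FourP

open Module Cfsg Subgroup
open Cfsg.Agent.Lib.Coprime.Action Cfsg.Agent.Lib.Coprime.Abelian
open Cfsg.Agent.Lib.HallHigman.FixedPoints
open Cfsg.Agent.Lib.Core.Basic Cfsg.Agent.Lib.Solvable.Fitting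
open scoped commutatorElement Pointwise

universe u v

section Lucido

/-- Two primes are joined by commuting elements. -/
def Adj (L : Type u) [Group L] (a b : ℕ) : Prop :=
  ∃ x y : L, orderOf x = a ∧ orderOf y = b ∧ x * y = y * x

variable {L : Type u} [Group L] [Finite L] {a b c : ℕ}

theorem Adj.symm (h : Adj L a b) : Adj L b a := by
  obtain ⟨x, y, hx, hy, hxy⟩ := h
  exact ⟨y, x, hy, hx, hxy.symm⟩

/-- The orders of a commuting product. -/
theorem orderOf_mul_of_comm {x y : L} (ha : a.Prime) (hb : b.Prime) (hab : a ≠ b) (hx : orderOf x = a)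
    (hy : orderOf y = b) (hxy : x * y = y * x) : orderOf (x * y) = a * b := by
  have hcop : Nat.Coprime (orderOf x) (orderOf y) := by
    rw [hx, hy]
    exact (Nat.coprime_primes ha hb).mpr hab
  rw [(show Commute x y from hxy).orderOf_mul_eq_mul_orderOf_of_coprime hcop, hx, hy]

/-- An element of order divisible by two primes gives commuting elements. -/
theorem adj_of_dvd_orderOf (g : L) (ha : a ∣ orderOf g) (hb : b ∣ orderOf g) : Adj L a b := by
  refine ⟨g ^ (orderOf g / a), g ^ (orderOf g / b), orderOf_pow_orderOf_div (orderOf_pos g).ne' ha,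
    orderOf_pow_orderOf_div (orderOf_pos g).ne' hb, ?_⟩
  exact ((Commute.refl g).pow_pow _ _).eq

theorem Adj.of_quot {N : Subgroup L} [hN : N.Normal] (ha : a.Prime) (hb : b.Prime) (hab : a ≠ b)
    (h : Adj (L ⧸ N) a b) : Adj L a b := by
  obtain ⟨x, y, hx, hy, hxy⟩ := h
  obtain ⟨g, hg⟩ := QuotientGroup.mk'_surjective N (x * y)
  have h1 : orderOf (x * y) ∣ orderOf g := by
    rw [← hg]
    exact orderOf_map_dvd _ g
  rw [orderOf_mul_of_comm ha hb hab hx hy hxy] at h1
  exact adj_of_dvd_orderOf g ((Dvd.intro _ rfl).trans h1) ((Dvd.intro_left _ rfl).trans h1)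

/-- The core of Lucido's lemma. -/
theorem lucido_core [Group.IsSolvable L] (ha : a.Prime) (hb : b.Prime) (hc : c.Prime) (hab : a ≠ b)
    (hac : a ≠ c) (hbc : b ≠ c) (N : Subgroup L) (hN : N.Normal) (hNa : IsPGroup a N) (hN1 : N ≠ ⊥)
    (K : Subgroup L) (Y₀ : Subgroup K) (hY : Y₀.Normal) (hYb : IsPGroup b Y₀) (hY1 : Y₀ ≠ ⊥)
    (hcK : c ∣ Nat.card K) (hnab : ¬ Adj L a b) (hnac : ¬ Adj L a c) (hnbc : ¬ Adj L b c) : False := by
  classical
  haveI : Fact a.Prime := ⟨ha⟩
  haveI : Fact b.Prime := ⟨hb⟩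
  haveI : Fact c.Prime := ⟨hc⟩
  obtain ⟨y, hy⟩ := exists_prime_orderOf_dvd_card' c hcK
  have hy' : orderOf (y : L) = c := (Subgroup.orderOf_coe y).trans hy
  let Y : Subgroup L := Y₀.map K.subtype
  have hYp : IsPGroup b Y := hYb.map K.subtype
  have hyN : (y : L) ∈ normalizer ((Y : Subgroup L) : Set L) :=
    mem_normalizer_map (mem_normalizer_of_normal hY y)
  obtain ⟨W, i1, i2, i3, ρ, hnt, hfix, hker⟩ := exists_pkg (Γ := L) (s := a) N hNa
  have hact : ∀ k ∈ Y, ρ k = 1 := by
    refine fl ρ Y (zpowers (y : L)) (zpowers_le.mpr hyN) ?_ (card_cast_ne_zero hab.symm hYp) ?_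
    · intro z hz hz1 k hk hzk
      by_contra hk1
      have h1 : (y : L) * k = k * y := comm_of_mem_zpowers hc hy' hz hz1 hzk
      obtain ⟨m, hm⟩ := exists_pow_order hYp hk hk1
      exact hnbc ⟨k ^ m, y, hm, hy', ((show Commute k (y : L) from h1.symm).pow_left m).eq⟩
    · intro v hv
      by_contra hv0
      obtain ⟨m, hm, hm1, hmc⟩ := hfix (zpowers (y : L))
        (by
          rw [Nat.card_zpowers, hy']
          exact (Nat.coprime_primes hc ha).mpr hac.symm) v hv0 hv
      obtain ⟨e, he⟩ := exists_pow_order hNa hm hm1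
      have h1 : (y : L) * m = m * y := hmc y (mem_zpowers _)
      exact hnac ⟨m ^ e, y, he, hy', ((show Commute m (y : L) from h1.symm).pow_left e).eq⟩
  obtain ⟨k, hk⟩ := (Subgroup.ne_bot_iff_exists_ne_one).mp
    (show Y ≠ ⊥ by
      intro h
      apply hY1
      rw [Subgroup.map_eq_bot_iff_of_injective _ K.subtype_injective] at h
      exact h)
  have hk1 : (k : L) ≠ 1 := fun h => hk (Subtype.ext h)
  have hkcop : (orderOf (k : L)).Coprime a := by
    obtain ⟨n, hn⟩ := (IsPGroup.iff_orderOf (p := b)).mp hYp k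
    rw [Subgroup.orderOf_coe, hn]
    exact ((Nat.coprime_primes hb ha).mpr hab.symm).pow_left n
  have hcent := hker k hkcop (hact k k.2)
  obtain ⟨m, hm, hmo⟩ := exists_order_of_ne_bot hNa hN1
  obtain ⟨e, he⟩ := exists_pow_order hYp k.2 hk1
  exact hnab ⟨m, (k : L) ^ e, hmo, he, ((show Commute (k : L) m from hcent m hm).pow_left e).eq.symm⟩

/-- Lucido's lemma with a normal subgroup. -/
theorem lucido_normal [hsol : Group.IsSolvable L] (ha : a.Prime) (hb : b.Prime) (hc : c.Prime)
    (hab : a ≠ b) (hac : a ≠ c) (hbc : b ≠ c) (N : Subgroup L) (hN : N.Normal) (hNa : IsPGroup a N)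
    (hN1 : N ≠ ⊥) (hdb : b ∣ Nat.card L) (hdc : c ∣ Nat.card L) : Adj L a b ∨ Adj L a c ∨ Adj L b c := by
  classical
  by_contra hcon
  push Not at hcon
  obtain ⟨hnab, hnac, hnbc⟩ := hcon
  haveI : Fact a.Prime := ⟨ha⟩
  haveI : Fact b.Prime := ⟨hb⟩
  haveI : Fact c.Prime := ⟨hc⟩
  obtain ⟨K, -, -, hKπ, hKd, -⟩ := exists_hall_containing (⊤ : Subgroup L) inferInstance {b, c} ⊥ bot_le
    (by
      intro t ht hd
      rw [Subgroup.card_bot] at hd
      exact absurd (Nat.dvd_one.mp hd) ht.one_lt.ne')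
  have hdK : ∀ t : ℕ, t.Prime → t ∈ ({b, c} : Set ℕ) → t ∣ Nat.card L → t ∣ Nat.card K := by
    intro t ht hm hd
    exact hKd t ht hm (by rwa [Subgroup.card_top])
  have hbK := hdK b hb (Or.inl rfl) hdb
  have hcK := hdK c hc (Or.inr rfl) hdc
  have hKne : (⊤ : Subgroup K) ≠ ⊥ := by
    intro h
    have h1 : Nat.card K = 1 := by
      rw [← Subgroup.card_top (G := K), h, Subgroup.card_bot]
    rw [h1] at hbK
    exact hb.one_lt.ne' (Nat.dvd_one.mp hbK)
  obtain ⟨Y₀, -, hYn, hY1, ℓ, hℓ, hYe⟩ := Cfsg.Agent.Lib.Coprime.FrobCountGroup.exists_elem_normal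
    (⊤ : Subgroup K) inferInstance inferInstance hKne
  haveI : Fact ℓ.Prime := ⟨hℓ⟩
  have hYp : IsPGroup ℓ Y₀ := by
    intro y
    exact ⟨1, Subtype.ext (by simpa using hYe.2 y y.2)⟩
  obtain ⟨y, hy⟩ := (Subgroup.ne_bot_iff_exists_ne_one).mp hY1
  have hℓK : ℓ ∣ Nat.card K := by
    have h1 : orderOf y = ℓ := by
      refine orderOf_eq_prime ?_ hy
      exact Subtype.ext (by simpa using hYe.2 y y.2)
    rw [← h1, ← Subgroup.orderOf_coe y]
    exact orderOf_dvd_natCard _
  rcases hKπ ℓ hℓ hℓK with rfl | h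
  · exact lucido_core ha hb hc hab hac hbc N hN hNa hN1 K Y₀ hYn hYp hY1 hcK hnab hnac hnbc
  · rw [Set.mem_singleton_iff] at h
    subst h
    exact lucido_core ha hc hb hac hab hbc.symm N hN hNa hN1 K Y₀ hYn hYp hY1 hbK hnac hnab
      (fun h => hnbc h.symm)

/-- **Lucido's lemma**: among three primes dividing the order of a solvable group, two are joined. -/
theorem lucido {L : Type u} [Group L] [Finite L] [hsol : Group.IsSolvable L] (ha : a.Prime) (hb : b.Prime)
    (hc : c.Prime) (hab : a ≠ b) (hac : a ≠ c) (hbc : b ≠ c) (hda : a ∣ Nat.card L)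
    (hdb : b ∣ Nat.card L) (hdc : c ∣ Nat.card L) : Adj L a b ∨ Adj L a c ∨ Adj L b c := by
  classical
  induction hcard : Nat.card L using Nat.strong_induction_on generalizing L with
  | _ n ih =>
  subst hcard
  have hne : (⊤ : Subgroup L) ≠ ⊥ := by
    intro h
    have h1 : Nat.card L = 1 := by
      rw [← Subgroup.card_top (G := L), h, Subgroup.card_bot]
    rw [h1] at hda
    exact ha.one_lt.ne' (Nat.dvd_one.mp hda)
  obtain ⟨N, -, hNn, hN1, ℓ, hℓ, hNe⟩ := Cfsg.Agent.Lib.Coprime.FrobCountGroup.exists_elem_normal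
    (⊤ : Subgroup L) inferInstance inferInstance hne
  haveI : Fact ℓ.Prime := ⟨hℓ⟩
  have hNp : IsPGroup ℓ N := by
    intro y
    exact ⟨1, Subtype.ext (by simpa using hNe.2 y y.2)⟩
  by_cases h1 : ℓ = a
  · subst h1
    exact lucido_normal ha hb hc hab hac hbc N hNn hNp hN1 hdb hdc
  by_cases h2 : ℓ = b
  · subst h2
    rcases lucido_normal hb ha hc hab.symm hbc hac N hNn hNp hN1 hda hdc with h | h | h
    · exact Or.inl h.symm
    · exact Or.inr (Or.inr h)
    · exact Or.inr (Or.inl h)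
  by_cases h3 : ℓ = c
  · subst h3
    rcases lucido_normal hc ha hb hac.symm hbc.symm hab N hNn hNp hN1 hda hdb with h | h | h
    · exact Or.inr (Or.inl h.symm)
    · exact Or.inr (Or.inr h.symm)
    · exact Or.inl h
  -- pass to the quotient
  haveI := hNn
  have hcardQ : Nat.card L = Nat.card (L ⧸ N) * Nat.card N :=
    Subgroup.card_eq_card_quotient_mul_card_subgroup N
  have hquot : ∀ e : ℕ, e.Prime → e ≠ ℓ → e ∣ Nat.card L → e ∣ Nat.card (L ⧸ N) := by
    intro e he hne' hd
    rw [hcardQ] at hd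
    rcases (Nat.Prime.dvd_mul he).mp hd with h | h
    · exact h
    · exfalso
      obtain ⟨k, hk⟩ := IsPGroup.iff_card.mp hNp
      rw [hk] at h
      exact hne' ((Nat.prime_dvd_prime_iff_eq he hℓ).mp (he.dvd_of_dvd_pow h))
  have hlt : Nat.card (L ⧸ N) < Nat.card L := by
    rw [hcardQ]
    have h4 : 1 < Nat.card N := by
      haveI : Nontrivial N := (Subgroup.bot_or_nontrivial N).resolve_left hN1
      exact Finite.one_lt_card
    exact lt_mul_of_one_lt_right Nat.card_pos h4
  rcases ih _ hlt (hquot a ha (Ne.symm h1) hda) (hquot b hb (Ne.symm h2) hdb) (hquot c hc (Ne.symm h3) hdc)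
    rfl with h | h | h
  · exact Or.inl (h.of_quot ha hb hab)
  · exact Or.inr (Or.inl (h.of_quot ha hc hac))
  · exact Or.inr (Or.inr (h.of_quot hb hc hbc))

end Lucido

section Main

variable {G : Type u} [Group G] [Finite G] {σ : Finset ℕ}

/-- The hypotheses at the level of the group. -/
structure Ctx (G : Type u) [Group G] (σ : Finset ℕ) : Prop where
  card : σ.card = 4
  prime : ∀ t ∈ σ, t.Prime
  pi : ∀ t : ℕ, t.Prime → t ∣ Nat.card G → t ∈ σ
  pair : ∀ a ∈ σ, ∀ b ∈ σ, a ≠ b → Adj G a b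
  tri : ∀ a ∈ σ, ∀ b ∈ σ, ∀ c ∈ σ, a ≠ b → a ≠ c → b ≠ c → ∀ x y z : G,
    orderOf x = a → orderOf y = b → orderOf z = c → x * y = y * x → x * z = z * x → y * z = z * y → False

/-- The primes other than `t`. -/
theorem Ctx.others (hC : Ctx G σ) {t : ℕ} (ht : t ∈ σ) :
    ∃ a ∈ σ, ∃ b ∈ σ, ∃ c ∈ σ, a ≠ b ∧ a ≠ c ∧ b ≠ c ∧ a ≠ t ∧ b ≠ t ∧ c ≠ t := by
  classical
  have h1 : (σ.erase t).card = 3 := by
    rw [Finset.card_erase_of_mem ht, hC.card]
  obtain ⟨a, b, c, hab, hac, hbc, he⟩ := Finset.card_eq_three.mp h1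
  have hm : ∀ x, x ∈ ({a, b, c} : Finset ℕ) → x ∈ σ ∧ x ≠ t := by
    intro x hx
    rw [← he] at hx
    exact ⟨Finset.mem_of_mem_erase hx, Finset.ne_of_mem_erase hx⟩
  obtain ⟨ha, ha'⟩ := hm a (by simp)
  obtain ⟨hb, hb'⟩ := hm b (by simp)
  obtain ⟨hc, hc'⟩ := hm c (by simp)
  exact ⟨a, ha, b, hb, c, hc, hab, hac, hbc, ha', hb', hc'⟩

/-- (N): an element does not commute with elements of the three other orders. -/
theorem Ctx.no_three [hsol : Group.IsSolvable G] (hC : Ctx G σ) {t a b c : ℕ} (ht : t ∈ σ) (ha : a ∈ σ)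
    (hb : b ∈ σ) (hc : c ∈ σ) (hab : a ≠ b) (hac : a ≠ c) (hbc : b ≠ c) (hat : a ≠ t) (hbt : b ≠ t)
    (hct : c ≠ t) {w x y z : G} (hw : orderOf w = t) (hx : orderOf x = a) (hy : orderOf y = b)
    (hz : orderOf z = c) (hwx : w * x = x * w) (hwy : w * y = y * w) (hwz : w * z = z * w) : False := by
  let L : Subgroup G := centralizer {w}
  have hmem : ∀ g : G, g ∈ L ↔ w * g = g * w := by
    intro g
    simp only [L, mem_centralizer_iff, Set.mem_singleton_iff, forall_eq]
  have hd : ∀ {g : G} {e : ℕ}, orderOf g = e → w * g = g * w → e ∣ Nat.card L := by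
    intro g e hg hwg
    rw [← hg]
    exact Subgroup.orderOf_dvd_natCard L ((hmem g).mpr hwg)
  have hno : ∀ {e f : ℕ}, e ∈ σ → f ∈ σ → e ≠ f → e ≠ t → f ≠ t → Adj L e f → False := by
    rintro e f he hf hef het hft ⟨u, v, hu, hv, huv⟩
    exact hC.tri t ht e he f hf het.symm hft.symm hef w u v
      hw ((Subgroup.orderOf_coe u).trans hu) ((Subgroup.orderOf_coe v).trans hv)
      ((hmem u).mp u.2) ((hmem v).mp v.2) (congrArg Subtype.val huv)
  rcases lucido (L := L) (hC.prime a ha) (hC.prime b hb) (hC.prime c hc) hab hac hbc (hd hx hwx) (hd hy hwy)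
    (hd hz hwz) with h | h | h
  · exact hno ha hb hab hat hbt h
  · exact hno ha hc hac hat hct h
  · exact hno hb hc hbc hbt hct h

/-- (R): two independent commuting elements of order `t`. -/
theorem Ctx.rank [hsol : Group.IsSolvable G] (hC : Ctx G σ) {t : ℕ} (ht : t ∈ σ) (H : Subgroup G)
    (hcop : t.Coprime H.index) {x : G} (hxH : x ∈ H) (hx : orderOf x = t) : ∃ y ∈ H, NC t x y := by
  classical
  have htp := hC.prime t ht
  haveI : Fact t.Prime := ⟨htp⟩
  by_contra hcon
  push Not at hcon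
  have hmemx : ∀ y ∈ H, orderOf y = t → x * y = y * x → y ∈ zpowers x := by
    intro y hy hyo hxy
    by_contra hn
    exact hcon y hy ⟨hx, hyo, hxy, hn⟩
  have hx1 : x ≠ 1 := by
    rintro rfl
    rw [orderOf_one] at hx
    exact htp.one_lt.ne hx
  let x' : H := ⟨x, hxH⟩
  have hx'o : orderOf x' = t := (Subgroup.orderOf_coe x').symm.trans hx
  obtain ⟨P, hP⟩ := (isPGroup_zpowers htp hx'o).exists_le_sylow
  have hx'P : x' ∈ (P : Subgroup H) := hP (mem_zpowers x')
  haveI : Nontrivial (P : Subgroup H) := by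
    refine ⟨⟨⟨x', hx'P⟩, 1, ?_⟩⟩
    intro h
    exact hx1 (congrArg (fun u : (P : Subgroup H) => ((u : H) : G)) h)
  obtain ⟨z, -, hzc, hzo⟩ := Cfsg.Agent.Lib.PGroups.Basic.exists_central_orderOf_eq P.isPGroup'
    (⊤ : Subgroup (P : Subgroup H)) (by exact top_ne_bot)
  -- `z` as an element of `G`
  have hz'o : orderOf ((z : H) : G) = t :=
    (Subgroup.orderOf_coe (z : H)).trans ((Subgroup.orderOf_coe z).trans hzo)
  have hz'c : ∀ g ∈ (P : Subgroup H), ((z : H) : G) * g = g * (z : H) := by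
    intro g hg
    have h1 := Subgroup.mem_center_iff.mp hzc ⟨g, hg⟩
    exact (congrArg (fun u : (P : Subgroup H) => ((u : H) : G)) h1).symm
  have hzx : ((z : H) : G) ∈ zpowers x := hmemx _ (z : H).2 hz'o (hz'c x' hx'P).symm
  have hz1 : ((z : H) : G) ≠ 1 := by
    intro h
    rw [h, orderOf_one] at hz'o
    exact htp.one_lt.ne hz'o
  have hxz : x ∈ zpowers ((z : H) : G) := mem_zpowers_of_prime htp hx hzx hz1
  -- `P` has a unique subgroup of order `t`
  have huniq : ∀ u ∈ (P : Subgroup H), orderOf (u : G) = t → (u : G) ∈ zpowers x := by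
    intro u hu huo
    refine hmemx _ u.2 huo ?_
    exact comm_of_zpow_comm (c := ((z : H) : G)) (g := (u : G)) (hz'c u hu) hxz
  -- all subgroups of order `t` are conjugate
  let P' : Subgroup G := (P : Subgroup H).map H.subtype
  have hP'p : IsPGroup t P' := P.isPGroup'.map H.subtype
  have hidx : P'.index = (P : Subgroup H).index * H.index := Subgroup.index_map_subtype _
  have hidxcop : t.Coprime P'.index := by
    rw [hidx]
    refine Nat.Coprime.mul_right ?_ hcop
    obtain ⟨k, hk⟩ := IsPGroup.iff_card.mp P.isPGroup'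
    have h1 := P.card_coprime_index
    rw [hk] at h1
    by_cases hk0 : k = 0
    · subst hk0
      exfalso
      have h2 : Nat.card (P : Subgroup H) = 1 := by simpa using hk
      have := Finite.one_lt_card (α := (P : Subgroup H))
      omega
    · exact Nat.Coprime.coprime_dvd_left (dvd_pow_self t hk0) h1
  have hPcop : (Nat.card P').Coprime P'.index := by
    obtain ⟨k, hk⟩ := IsPGroup.iff_card.mp hP'p
    rw [hk]
    exact hidxcop.pow_left k
  have hconj : ∀ u : G, orderOf u = t → ∃ g : G, g⁻¹ * u * g ∈ zpowers x := by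
    intro u hu
    obtain ⟨g, hg⟩ := Cfsg.Agent.Lib.Solvable.Hall.exists_le_conj P' (zpowers u) hPcop (by
      rw [Nat.card_zpowers, hu]
      exact hidxcop)
    have h1 := hg (mem_zpowers u)
    rw [Cfsg.Agent.Lib.Solvable.Hall.mem_conj_smul_iff] at h1
    refine ⟨g, ?_⟩
    obtain ⟨v, hv, hve⟩ := h1
    rw [← hve]
    refine huniq v hv ?_
    have h2 : orderOf (g⁻¹ * u * g) = t := by
      have := orderOf_injective (MulAut.conj g⁻¹).toMonoidHom (MulAut.conj g⁻¹).injective u
      rw [hu] at this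
      simpa using this
    rw [← hve] at h2
    exact h2
  -- so `x` commutes with elements of all other orders
  have hpart : ∀ a ∈ σ, a ≠ t → ∃ v : G, orderOf v = a ∧ x * v = v * x := by
    intro a ha hat
    obtain ⟨u, v, hu, hv, huv⟩ := hC.pair t ht a ha hat.symm
    obtain ⟨g, hg⟩ := hconj u hu
    have hu'o : orderOf (g⁻¹ * u * g) = t := by
      have := orderOf_injective (MulAut.conj g⁻¹).toMonoidHom (MulAut.conj g⁻¹).injective u
      rw [hu] at this
      simpa using this
    have hu'1 : g⁻¹ * u * g ≠ 1 := by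
      intro h
      rw [h, orderOf_one] at hu'o
      exact htp.one_lt.ne hu'o
    have hxu : x ∈ zpowers (g⁻¹ * u * g) := mem_zpowers_of_prime htp hx hg hu'1
    have hcomm : (g⁻¹ * u * g) * (g⁻¹ * v * g) = (g⁻¹ * v * g) * (g⁻¹ * u * g) := by
      calc (g⁻¹ * u * g) * (g⁻¹ * v * g) = g⁻¹ * (u * v) * g := by group
        _ = g⁻¹ * (v * u) * g := by rw [huv]
        _ = _ := by group
    refine ⟨g⁻¹ * v * g, ?_, comm_of_zpow_comm hcomm hxu⟩
    have := orderOf_injective (MulAut.conj g⁻¹).toMonoidHom (MulAut.conj g⁻¹).injective v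
    rw [hv] at this
    simpa using this
  obtain ⟨a, ha, b, hb, c, hc, hab, hac, hbc, hat, hbt, hct⟩ := hC.others ht
  obtain ⟨v₁, hv₁, hv₁c⟩ := hpart a ha hat
  obtain ⟨v₂, hv₂, hv₂c⟩ := hpart b hb hbt
  obtain ⟨v₃, hv₃, hv₃c⟩ := hpart c hc hct
  exact hC.no_three ht ha hb hc hab hac hbc hat hbt hct hx hv₁ hv₂ hv₃ hv₁c hv₂c hv₃c

/-- A Hall subgroup. -/
theorem exists_hall_top [hsol : Group.IsSolvable G] (π : Set ℕ) :
    ∃ H : Subgroup G, (∀ t : ℕ, t.Prime → t ∣ Nat.card H → t ∈ π) ∧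
      ∀ t : ℕ, t.Prime → t ∈ π → ¬ t ∣ H.index := by
  obtain ⟨H, -, h1, h2⟩ := Cfsg.Agent.Lib.Coprime.Hall.exists_isPiHallOf π (⊤ : Subgroup G)
  refine ⟨H, h1, ?_⟩
  intro t ht hπ
  have := h2 t ht hπ
  rwa [Subgroup.relIndex_top_right] at this

/-- Commuting elements with orders in `π` can be conjugated into a Hall `π`-subgroup. -/
theorem Ctx.pair_in [hsol : Group.IsSolvable G] (hC : Ctx G σ) {π : Set ℕ} {H : Subgroup G}
    (hH : ∀ t : ℕ, t.Prime → t ∣ Nat.card H → t ∈ π) (hi : ∀ t : ℕ, t.Prime → t ∈ π → ¬ t ∣ H.index)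
    {a b : ℕ} (ha : a ∈ σ) (hb : b ∈ σ) (hab : a ≠ b) (haπ : a ∈ π) (hbπ : b ∈ π) :
    ∃ x y : H, orderOf x = a ∧ orderOf y = b ∧ x * y = y * x := by
  obtain ⟨x, y, hx, hy, hxy⟩ := hC.pair a ha b hb hab
  have hap := hC.prime a ha
  have hbp := hC.prime b hb
  have hord := orderOf_mul_of_comm hap hbp hab hx hy hxy
  obtain ⟨g, hg⟩ := Cfsg.Agent.Lib.Solvable.Hall.exists_le_conj H (zpowers (x * y))
    (Cfsg.Agent.Lib.Coprime.Hall.coprime_of_pi hH hi)
    (Cfsg.Agent.Lib.Coprime.Hall.coprime_of_pi (π := π) (by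
      intro t ht hd
      rw [Nat.card_zpowers, hord] at hd
      rcases (Nat.Prime.dvd_mul ht).mp hd with h | h
      · rw [(Nat.prime_dvd_prime_iff_eq ht hap).mp h]
        exact haπ
      · rw [(Nat.prime_dvd_prime_iff_eq ht hbp).mp h]
        exact hbπ) hi)
  have h1 : x ∈ MulAut.conj g • H := hg (mem_zpowers_mul hap hbp hab hx hy hxy)
  have h2 : y ∈ MulAut.conj g • H := hg (by
    rw [hxy]
    exact mem_zpowers_mul hbp hap hab.symm hy hx hxy.symm)
  rw [Cfsg.Agent.Lib.Solvable.Hall.mem_conj_smul_iff] at h1 h2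
  refine ⟨⟨g⁻¹ * x * g, h1⟩, ⟨g⁻¹ * y * g, h2⟩, ?_, ?_, ?_⟩
  · have := orderOf_injective (MulAut.conj g⁻¹).toMonoidHom (MulAut.conj g⁻¹).injective x
    rw [hx] at this
    rw [← Subgroup.orderOf_coe]
    simpa using this
  · have := orderOf_injective (MulAut.conj g⁻¹).toMonoidHom (MulAut.conj g⁻¹).injective y
    rw [hy] at this
    rw [← Subgroup.orderOf_coe]
    simpa using this
  · apply Subtype.ext
    change g⁻¹ * x * g * (g⁻¹ * y * g) = g⁻¹ * y * g * (g⁻¹ * x * g)
    calc g⁻¹ * x * g * (g⁻¹ * y * g) = g⁻¹ * (x * y) * g := by group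
      _ = g⁻¹ * (y * x) * g := by rw [hxy]
      _ = _ := by group

/-- Fixed vectors give commuting elements of the core. -/
theorem exists_comm_of_fixed {s : ℕ} [hs : Fact s.Prime] {V : Type v} [AddCommGroup V]
    [Module (ZMod s) V] {ρ : G →* End (ZMod s) V}
    (hfix : ∀ A : Subgroup G, (Nat.card A).Coprime s → ∀ v : V, v ≠ 0 → (∀ a ∈ A, ρ a v = v) →
      ∃ m ∈ pCore s G, m ≠ 1 ∧ ∀ a ∈ A, a * m = m * a) {g : G} (hg : (orderOf g).Coprime s) {v : V}
    (hv : v ≠ 0) (hgv : ρ g v = v) : ∃ m ∈ pCore s G, orderOf m = s ∧ g * m = m * g := by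
  obtain ⟨m, hm, hm1, hc⟩ := hfix (zpowers g) (by rwa [Nat.card_zpowers]) v hv
    (fun a ha => fixed_of_mem_zpowers hgv ha)
  obtain ⟨e, he⟩ := exists_pow_order (pCore_isPGroup (p := s) (G := G)) hm hm1
  refine ⟨m ^ e, (pCore s G).pow_mem hm e, he, ?_⟩
  exact ((show Commute g m from hc g (mem_zpowers g)).pow_right e).eq

theorem NC.of_coe {T : Subgroup G} {t : ℕ} {a b : T} (h : NC t (a : G) (b : G)) : NC t a b := by
  refine ⟨(Subgroup.orderOf_coe a).symm.trans h.ox, (Subgroup.orderOf_coe b).symm.trans h.oy,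
    Subtype.ext h.comm, ?_⟩
  intro hm
  apply h.nm
  obtain ⟨k, hk⟩ := mem_zpowers_iff.mp hm
  refine mem_zpowers_iff.mpr ⟨k, ?_⟩
  simpa using congrArg Subtype.val hk

/-- An element of the Fitting subgroup all of whose prime divisors have trivial core is trivial. -/
theorem eq_one_of_mem_fitting {g : G} (hF : g ∈ fittingSubgroup G)
    (h : ∀ e : ℕ, e.Prime → e ∣ orderOf g → pCore e G = ⊥) : g = 1 := by
  by_contra hg
  have h1 : orderOf g ≠ 1 := fun h' => hg (orderOf_eq_one_iff.mp h')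
  obtain ⟨e, he, hd⟩ := Nat.exists_prime_and_dvd h1
  haveI : Fact e.Prime := ⟨he⟩
  have ho : orderOf (g ^ (orderOf g / e)) = e := orderOf_pow_orderOf_div (orderOf_pos g).ne' hd
  have hmem : g ^ (orderOf g / e) ∈ pCore e G := by
    refine mem_pCore_of_mem_fitting' ((fittingSubgroup G).pow_mem hF _) ⟨1, ?_⟩
    rw [pow_one]
    exact orderOf_dvd_iff_pow_eq_one.mp (dvd_of_eq ho)
  rw [h e he hd, mem_bot] at hmem
  rw [hmem, orderOf_one] at ho
  exact he.one_lt.ne ho

/-- **Case of one core.** -/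
theorem Ctx.case_one [hsol : Group.IsSolvable G] (hC : Ctx G σ) {s : ℕ} (hsσ : s ∈ σ)
    (hO : pCore s G ≠ ⊥) (hoth : ∀ t ∈ σ, t ≠ s → pCore t G = ⊥) : False := by
  classical
  have hsp := hC.prime s hsσ
  haveI hs : Fact s.Prime := ⟨hsp⟩
  obtain ⟨H, hHπ, hHi⟩ := exists_hall_top (G := G) {t | t ≠ s}
  obtain ⟨V, i1, i2, i3, ρ₀, hnt, hfix, hker⟩ := exists_pkg (Γ := G) (s := s) (pCore s G) pCore_isPGroup
  haveI : Nontrivial V := hnt hO
  haveI : Finite V := Module.finite_of_finite (ZMod s)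
  let ρ : H →* End (ZMod s) V := ρ₀.comp H.subtype
  have hρ : ∀ h : H, ρ h = ρ₀ (h : G) := fun _ => rfl
  have hord : ∀ h : H, (orderOf (h : G)).Coprime s := by
    intro h
    rw [Subgroup.orderOf_coe]
    refine Nat.Coprime.symm ((Nat.Prime.coprime_iff_not_dvd hsp).mpr ?_)
    intro hd
    exact hHπ s hsp (hd.trans (orderOf_dvd_natCard h)) rfl
  have hmemσ : ∀ {t : ℕ}, t ∈ σ.erase s → t ∈ σ ∧ t ≠ s := fun ht =>
    ⟨Finset.mem_of_mem_erase ht, Finset.ne_of_mem_erase ht⟩
  have hS : Sit ρ (σ.erase s) := {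
    card := by rw [Finset.card_erase_of_mem hsσ, hC.card]
    prime := fun t ht => hC.prime t (hmemσ ht).1
    pi := by
      intro t ht hd
      have h1 : t ∣ Nat.card G := hd.trans (Subgroup.card_subgroup_dvd_card H)
      exact Finset.mem_erase.mpr ⟨hHπ t ht hd, hC.pi t ht h1⟩
    s_notin := by simp
    inj := by
      have hker' : ∀ h : H, ρ h = 1 → h = 1 := by
        intro h hh
        have h1 := hker (h : G) (hord h) hh
        have hF : (h : G) ∈ fittingSubgroup G := by
          apply mem_fitting_of_centralizes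
          intro t ht u hu
          by_cases hts : t = s
          · subst hts
            exact h1 u hu
          by_cases htσ : t ∈ σ
          · rw [hoth t htσ hts, mem_bot] at hu
            rw [hu]
            simp
          · haveI : Fact t.Prime := ⟨ht⟩
            rw [pCore_eq_bot_of_not_dvd (fun h' => htσ (hC.pi t ht h')), mem_bot] at hu
            rw [hu]
            simp
        have h2 := eq_one_of_mem_fitting hF (by
          intro e he hd
          have hes : e ≠ s := by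
            rintro rfl
            have := hord h
            exact he.one_lt.ne' (Nat.Coprime.eq_one_of_dvd this.symm hd)
          by_cases heσ : e ∈ σ
          · exact hoth e heσ hes
          · haveI : Fact e.Prime := ⟨he⟩
            exact pCore_eq_bot_of_not_dvd (fun h' => heσ (hC.pi e he h')))
        exact Subtype.ext h2
      intro a b hab
      have h1 : ρ (a * b⁻¹) = 1 := by
        rw [map_mul, hab, ← map_mul, mul_inv_cancel, map_one]
      have h2 := hker' _ h1
      exact mul_inv_eq_one.mp h2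
    pair := by
      intro a ha b hb hab
      exact hC.pair_in hHπ hHi (hmemσ ha).1 (hmemσ hb).1 hab (hmemσ ha).2 (hmemσ hb).2
    tri := by
      intro a ha b hb c hc hab hac hbc x y z hx hy hz hxy hxz hyz
      exact hC.tri a (hmemσ ha).1 b (hmemσ hb).1 c (hmemσ hc).1 hab hac hbc x y z
        ((Subgroup.orderOf_coe x).trans hx) ((Subgroup.orderOf_coe y).trans hy)
        ((Subgroup.orderOf_coe z).trans hz) (congrArg Subtype.val hxy) (congrArg Subtype.val hxz)
        (congrArg Subtype.val hyz)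
    free := by
      intro a ha b hb hab x y hx hy hxy v hvx hvy
      by_contra hv0
      have hap := hC.prime a (hmemσ ha).1
      have hbp := hC.prime b (hmemσ hb).1
      have hx' : orderOf (x : G) = a := (Subgroup.orderOf_coe x).trans hx
      have hy' : orderOf (y : G) = b := (Subgroup.orderOf_coe y).trans hy
      have hxy' : (x : G) * y = y * x := congrArg Subtype.val hxy
      obtain ⟨m, hm, hmo, hgm⟩ := exists_comm_of_fixed hfix (g := (x : G) * y) (v := v)
        (by
          have := hord (x * y)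
          simpa using this) hv0
        (by
          rw [map_mul]
          change ρ₀ x (ρ₀ y v) = v
          change ρ₀ y v = v at hvy
          change ρ₀ x v = v at hvx
          rw [hvy, hvx])
      have h1 : ((x : G)) * m = m * x :=
        comm_of_zpow_comm hgm (mem_zpowers_mul hap hbp hab hx' hy' hxy')
      have h2 : ((y : G)) * m = m * y :=
        comm_of_zpow_comm hgm (by
          rw [hxy']
          exact mem_zpowers_mul hbp hap hab.symm hy' hx' hxy'.symm)
      exact hC.tri a (hmemσ ha).1 b (hmemσ hb).1 s hsσ hab (hmemσ ha).2 (hmemσ hb).2 x y m hx' hy' hmo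
        hxy' h1 h2
    two := by
      intro t ht a ha b hb hta htb hab w x y hw hx hy hwx hwy v hv
      by_contra hv0
      obtain ⟨m, hm, hmo, hgm⟩ := exists_comm_of_fixed hfix (g := (w : G)) (hord w) hv0 hv
      exact hC.no_three (hmemσ ht).1 (hmemσ ha).1 (hmemσ hb).1 hsσ hab (hmemσ ha).2 (hmemσ hb).2
        hta.symm htb.symm (hmemσ ht).2.symm
        ((Subgroup.orderOf_coe w).trans hw) ((Subgroup.orderOf_coe x).trans hx)
        ((Subgroup.orderOf_coe y).trans hy) hmo (congrArg Subtype.val hwx) (congrArg Subtype.val hwy) hgm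
    rank := by
      intro t ht x hx
      have htp := hC.prime t (hmemσ ht).1
      obtain ⟨y, hyH, hy⟩ := hC.rank (hmemσ ht).1 H
        ((Nat.Prime.coprime_iff_not_dvd htp).mpr (hHi t htp (hmemσ ht).2)) x.2
        ((Subgroup.orderOf_coe x).trans hx)
      exact ⟨⟨y, hyH⟩, NC.of_coe hy⟩ }
  exact hS.false

/-- **Case of two cores.** -/
theorem Ctx.case_two [hsol : Group.IsSolvable G] (hC : Ctx G σ) {s₁ s₂ q r : ℕ} (h₁ : s₁ ∈ σ) (h₂ : s₂ ∈ σ)
    (hq : q ∈ σ) (hr : r ∈ σ) (h12 : s₁ ≠ s₂) (h1q : s₁ ≠ q) (h1r : s₁ ≠ r) (h2q : s₂ ≠ q) (h2r : s₂ ≠ r)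
    (hqr : q ≠ r) (hO₁ : pCore s₁ G ≠ ⊥) (hO₂ : pCore s₂ G ≠ ⊥) (hOq : pCore q G = ⊥)
    (hOr : pCore r G = ⊥) : False := by
  classical
  have hs₁p := hC.prime s₁ h₁
  have hs₂p := hC.prime s₂ h₂
  have hqp := hC.prime q hq
  have hrp := hC.prime r hr
  haveI : Fact s₁.Prime := ⟨hs₁p⟩
  haveI : Fact s₂.Prime := ⟨hs₂p⟩
  haveI : Fact q.Prime := ⟨hqp⟩
  haveI : Fact r.Prime := ⟨hrp⟩
  have hcard4 : σ = {s₁, s₂, q, r} := by
    symm
    apply Finset.eq_of_subset_of_card_le
    · intro x hx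
      simp only [Finset.mem_insert, Finset.mem_singleton] at hx
      rcases hx with rfl | rfl | rfl | rfl <;> assumption
    · rw [hC.card, Finset.card_insert_of_notMem, Finset.card_insert_of_notMem,
        Finset.card_insert_of_notMem, Finset.card_singleton]
      · simpa using hqr
      · simp [h2q, h2r]
      · simp [h12, h1q, h1r]
  have hσcases : ∀ t ∈ σ, t = s₁ ∨ t = s₂ ∨ t = q ∨ t = r := by
    intro t ht
    rw [hcard4] at ht
    simpa using ht
  obtain ⟨T, hTπ, hTi⟩ := exists_hall_top (G := G) {q, r}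
  obtain ⟨V₁, i1, i2, i3, ρ₁₀, hnt₁, hfix₁, hker₁⟩ := exists_pkg (Γ := G) (s := s₁) (pCore s₁ G) pCore_isPGroup
  obtain ⟨V₂, j1, j2, j3, ρ₂₀, hnt₂, hfix₂, hker₂⟩ := exists_pkg (Γ := G) (s := s₂) (pCore s₂ G) pCore_isPGroup
  haveI : Nontrivial V₁ := hnt₁ hO₁
  haveI : Finite V₁ := Module.finite_of_finite (ZMod s₁)
  haveI : Nontrivial V₂ := hnt₂ hO₂
  haveI : Finite V₂ := Module.finite_of_finite (ZMod s₂)
  let ρ₁ : T →* End (ZMod s₁) V₁ := ρ₁₀.comp T.subtype
  let ρ₂ : T →* End (ZMod s₂) V₂ := ρ₂₀.comp T.subtype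
  have hordq : ∀ h : T, ∀ e : ℕ, e.Prime → e ≠ q → e ≠ r → (orderOf (h : G)).Coprime e := by
    intro h e he heq her
    rw [Subgroup.orderOf_coe]
    refine Nat.Coprime.symm ((Nat.Prime.coprime_iff_not_dvd he).mpr ?_)
    intro hd
    rcases hTπ e he (hd.trans (orderOf_dvd_natCard h)) with h' | h'
    · exact heq h'
    · exact her h'
  have hdiv : ∀ {e : ℕ}, e ∈ σ → e ≠ s₁ → e ≠ s₂ → e ∈ ({q, r} : Set ℕ) := by
    intro e he h1 h2
    rcases hσcases e he with h | h | h | h
    · exact absurd h h1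
    · exact absurd h h2
    · exact Or.inl h
    · exact Or.inr h
  have hTq := hC.pair_in hTπ hTi hq hr hqr (Or.inl rfl) (Or.inr rfl)
  have hTS : TwoSit ρ₁ ρ₂ q r := {
    qp := hqp
    rp := hrp
    qr := hqr
    pi := fun t ht hd => hTπ t ht hd
    dq := by
      obtain ⟨x, -, hx, -, -⟩ := hTq
      rw [← hx]
      exact orderOf_dvd_natCard x
    dr := by
      obtain ⟨-, y, -, hy, -⟩ := hTq
      rw [← hy]
      exact orderOf_dvd_natCard y
    s1q := h1q
    s1r := h1r
    s2q := h2q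
    s2r := h2r
    inj := by
      intro h hh₁ hh₂
      have hc₁ := hker₁ (h : G) (hordq h s₁ hs₁p h1q h1r) hh₁
      have hc₂ := hker₂ (h : G) (hordq h s₂ hs₂p h2q h2r) hh₂
      have hF : (h : G) ∈ fittingSubgroup G := by
        apply mem_fitting_of_centralizes
        intro t ht u hu
        by_cases hts : t = s₁
        · subst hts
          exact hc₁ u hu
        by_cases hts' : t = s₂
        · subst hts'
          exact hc₂ u hu
        have hbot : pCore t G = ⊥ := by
          by_cases htσ : t ∈ σ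
          · rcases hσcases t htσ with h' | h' | h' | h'
            · exact absurd h' hts
            · exact absurd h' hts'
            · rw [h', hOq]
            · rw [h', hOr]
          · haveI : Fact t.Prime := ⟨ht⟩
            exact pCore_eq_bot_of_not_dvd (fun h' => htσ (hC.pi t ht h'))
        rw [hbot, mem_bot] at hu
        rw [hu]
        simp
      have h2 := eq_one_of_mem_fitting hF (by
        intro e he hd
        rw [Subgroup.orderOf_coe] at hd
        rcases hTπ e he (hd.trans (orderOf_dvd_natCard h)) with h' | h'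
        · rw [h', hOq]
        · rw [Set.mem_singleton_iff.mp h', hOr])
      exact Subtype.ext h2
    free₁ := by
      intro x y hx hy hxy v hvx hvy
      by_contra hv0
      have hx' : orderOf (x : G) = q := (Subgroup.orderOf_coe x).trans hx
      have hy' : orderOf (y : G) = r := (Subgroup.orderOf_coe y).trans hy
      have hxy' : (x : G) * y = y * x := congrArg Subtype.val hxy
      obtain ⟨m, hm, hmo, hgm⟩ := exists_comm_of_fixed hfix₁ (g := (x : G) * y) (v := v)
        (by
          have := hordq (x * y) s₁ hs₁p h1q h1r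
          simpa using this) hv0
        (by
          rw [map_mul]
          change ρ₁₀ x (ρ₁₀ y v) = v
          change ρ₁₀ y v = v at hvy
          change ρ₁₀ x v = v at hvx
          rw [hvy, hvx])
      have h1 : ((x : G)) * m = m * x :=
        comm_of_zpow_comm hgm (mem_zpowers_mul hqp hrp hqr hx' hy' hxy')
      have h2 : ((y : G)) * m = m * y :=
        comm_of_zpow_comm hgm (by
          rw [hxy']
          exact mem_zpowers_mul hrp hqp hqr.symm hy' hx' hxy'.symm)
      exact hC.tri q hq r hr s₁ h₁ hqr h1q.symm h1r.symm x y m hx' hy' hmo hxy' h1 h2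
    free₂ := by
      intro x y hx hy hxy v hvx hvy
      by_contra hv0
      have hx' : orderOf (x : G) = q := (Subgroup.orderOf_coe x).trans hx
      have hy' : orderOf (y : G) = r := (Subgroup.orderOf_coe y).trans hy
      have hxy' : (x : G) * y = y * x := congrArg Subtype.val hxy
      obtain ⟨m, hm, hmo, hgm⟩ := exists_comm_of_fixed hfix₂ (g := (x : G) * y) (v := v)
        (by
          have := hordq (x * y) s₂ hs₂p h2q h2r
          simpa using this) hv0
        (by
          rw [map_mul]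
          change ρ₂₀ x (ρ₂₀ y v) = v
          change ρ₂₀ y v = v at hvy
          change ρ₂₀ x v = v at hvx
          rw [hvy, hvx])
      have h1 : ((x : G)) * m = m * x :=
        comm_of_zpow_comm hgm (mem_zpowers_mul hqp hrp hqr hx' hy' hxy')
      have h2 : ((y : G)) * m = m * y :=
        comm_of_zpow_comm hgm (by
          rw [hxy']
          exact mem_zpowers_mul hrp hqp hqr.symm hy' hx' hxy'.symm)
      exact hC.tri q hq r hr s₂ h₂ hqr h2q.symm h2r.symm x y m hx' hy' hmo hxy' h1 h2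
    both := by
      intro t ht
      by_contra hcon
      push Not at hcon
      obtain ⟨hn₁, hn₂⟩ := hcon
      unfold Free at hn₁ hn₂
      push Not at hn₁ hn₂
      obtain ⟨v₁, hv₁, hv₁0⟩ := hn₁
      obtain ⟨v₂, hv₂, hv₂0⟩ := hn₂
      obtain ⟨m₁, hm₁, hm₁o, ht₁⟩ := exists_comm_of_fixed hfix₁ (g := (t : G))
        (hordq t s₁ hs₁p h1q h1r) hv₁0 hv₁
      obtain ⟨m₂, hm₂, hm₂o, ht₂⟩ := exists_comm_of_fixed hfix₂ (g := (t : G))
        (hordq t s₂ hs₂p h2q h2r) hv₂0 hv₂
      have hcomm := core_comm hs₁p hs₂p h12 hm₁ hm₂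
      rcases ht with ht | ht
      · exact hC.tri q hq s₁ h₁ s₂ h₂ h1q.symm h2q.symm h12 t m₁ m₂
          ((Subgroup.orderOf_coe t).trans ht) hm₁o hm₂o ht₁ ht₂ hcomm
      · exact hC.tri r hr s₁ h₁ s₂ h₂ h1r.symm h2r.symm h12 t m₁ m₂
          ((Subgroup.orderOf_coe t).trans ht) hm₁o hm₂o ht₁ ht₂ hcomm
    rank := by
      intro e he x hx
      have heσ : e ∈ σ := by
        rcases he with rfl | rfl <;> assumption
      have hep := hC.prime e heσ
      obtain ⟨y, hyH, hy⟩ := hC.rank heσ T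
        ((Nat.Prime.coprime_iff_not_dvd hep).mpr (hTi e hep (by
          rcases he with rfl | rfl
          · exact Or.inl rfl
          · exact Or.inr rfl))) x.2
        ((Subgroup.orderOf_coe x).trans hx)
      exact ⟨⟨y, hyH⟩, NC.of_coe hy⟩ }
  exact hTS.false

/-- **The contradiction at the level of the group.** -/
theorem Ctx.false [hsol : Group.IsSolvable G] (hC : Ctx G σ) : False := by
  classical
  have hσ0 : σ.Nonempty := by
    rw [← Finset.card_pos, hC.card]
    norm_num
  obtain ⟨t₀, ht₀⟩ := hσ0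
  obtain ⟨a₀, ha₀, -, -, -, -, -, -, -, hat₀, -, -⟩ := hC.others ht₀
  obtain ⟨x₀, -, hx₀, -, -⟩ := hC.pair a₀ ha₀ t₀ ht₀ hat₀
  -- some core is non-trivial
  have hcore : ∃ s ∈ σ, pCore s G ≠ ⊥ := by
    by_contra hcon
    push Not at hcon
    have hb : ∀ t : ℕ, t.Prime → pCore t G = ⊥ := by
      intro t ht
      by_cases htσ : t ∈ σ
      · exact hcon t htσ
      · haveI : Fact t.Prime := ⟨ht⟩
        exact pCore_eq_bot_of_not_dvd (fun h' => htσ (hC.pi t ht h'))
    have hxF : x₀ ∈ fittingSubgroup G := by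
      apply mem_fitting_of_centralizes
      intro t ht u hu
      rw [hb t ht, mem_bot] at hu
      rw [hu]
      simp
    have h1 := eq_one_of_mem_fitting hxF (fun e he _ => hb e he)
    rw [h1, orderOf_one] at hx₀
    exact (hC.prime a₀ ha₀).one_lt.ne hx₀
  obtain ⟨s, hs, hOs⟩ := hcore
  by_cases h2 : ∃ s₂ ∈ σ, s₂ ≠ s ∧ pCore s₂ G ≠ ⊥
  · obtain ⟨s₂, hs₂, hne, hOs₂⟩ := h2
    -- the other two primes
    have h3 : ((σ.erase s).erase s₂).card = 2 := by
      rw [Finset.card_erase_of_mem (Finset.mem_erase.mpr ⟨hne, hs₂⟩), Finset.card_erase_of_mem hs, hC.card]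
    obtain ⟨q, r, hqr, he⟩ := Finset.card_eq_two.mp h3
    have hm : ∀ x, x ∈ ({q, r} : Finset ℕ) → x ∈ σ ∧ x ≠ s ∧ x ≠ s₂ := by
      intro x hx
      rw [← he] at hx
      have h4 := Finset.mem_erase.mp hx
      have h5 := Finset.mem_erase.mp h4.2
      exact ⟨h5.2, h5.1, h4.1⟩
    obtain ⟨hq, hqs, hqs₂⟩ := hm q (by simp)
    obtain ⟨hr, hrs, hrs₂⟩ := hm r (by simp)
    have hbot : ∀ {e : ℕ}, e ∈ σ → e ≠ s → e ≠ s₂ → pCore e G = ⊥ := by
      intro e he hes hes₂
      by_contra hne'
      haveI : Fact s.Prime := ⟨hC.prime s hs⟩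
      haveI : Fact s₂.Prime := ⟨hC.prime s₂ hs₂⟩
      haveI : Fact e.Prime := ⟨hC.prime e he⟩
      obtain ⟨u, hu, huo⟩ := exists_order_of_ne_bot (pCore_isPGroup (p := s)) hOs
      obtain ⟨v, hv, hvo⟩ := exists_order_of_ne_bot (pCore_isPGroup (p := s₂)) hOs₂
      obtain ⟨w, hw, hwo⟩ := exists_order_of_ne_bot (pCore_isPGroup (p := e)) hne'
      exact hC.tri s hs s₂ hs₂ e he hne.symm hes.symm hes₂.symm u v w huo hvo hwo
        (core_comm (hC.prime s hs) (hC.prime s₂ hs₂) hne.symm hu hv)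
        (core_comm (hC.prime s hs) (hC.prime e he) hes.symm hu hw)
        (core_comm (hC.prime s₂ hs₂) (hC.prime e he) hes₂.symm hv hw)
    exact hC.case_two hs hs₂ hq hr hne.symm hqs.symm hrs.symm hqs₂.symm hrs₂.symm hqr hOs hOs₂
      (hbot hq hqs hqs₂) (hbot hr hrs hrs₂)
  · push Not at h2
    exact hC.case_one hs hOs h2

end Main

section Final

variable {G : Type u} [Group G] [Finite G]

/-- **Theorem.** A finite group with at least four primes pairwise joined but no three of them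
joined is not solvable. -/
theorem not_solvable_of_four_primes (σ : Finset ℕ) (hσ : 4 ≤ σ.card) (hprime : ∀ p ∈ σ, p.Prime)
    (h2 : ∀ p ∈ σ, ∀ q ∈ σ, p ≠ q → ∃ g : G, orderOf g = p * q)
    (h3 : ∀ p ∈ σ, ∀ q ∈ σ, ∀ r ∈ σ, p ≠ q → q ≠ r → p ≠ r → ∀ g : G, orderOf g ≠ p * q * r) :
    ¬ Group.IsSolvable G := by
  classical
  intro hsol
  obtain ⟨σ₀, hsub, hcard⟩ := Finset.exists_subset_card_eq hσ
  obtain ⟨H, hHπ, hHi⟩ := exists_hall_top (G := G) {t | t ∈ σ₀}
  have hcopH := Cfsg.Agent.Lib.Coprime.Hall.coprime_of_pi hHπ hHi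
  have hC : Ctx H σ₀ := {
    card := hcard
    prime := fun t ht => hprime t (hsub ht)
    pi := fun t ht hd => hHπ t ht hd
    pair := by
      intro a ha b hb hab
      have hap := hprime a (hsub ha)
      have hbp := hprime b (hsub hb)
      obtain ⟨g, hg⟩ := h2 a (hsub ha) b (hsub hb) hab
      obtain ⟨γ, hγ⟩ := Cfsg.Agent.Lib.Solvable.Hall.exists_le_conj H (zpowers g) hcopH
        (Cfsg.Agent.Lib.Coprime.Hall.coprime_of_pi (π := {t | t ∈ σ₀}) (by
          intro t ht hd
          rw [Nat.card_zpowers, hg] at hd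
          rcases (Nat.Prime.dvd_mul ht).mp hd with h | h
          · rw [(Nat.prime_dvd_prime_iff_eq ht hap).mp h]
            exact ha
          · rw [(Nat.prime_dvd_prime_iff_eq ht hbp).mp h]
            exact hb) hHi)
      have h1 := hγ (mem_zpowers g)
      rw [Cfsg.Agent.Lib.Solvable.Hall.mem_conj_smul_iff] at h1
      have h4 : orderOf (γ⁻¹ * g * γ) = a * b := by
        rw [← hg]
        have := orderOf_injective (MulAut.conj γ⁻¹).toMonoidHom (MulAut.conj γ⁻¹).injective g
        simpa using this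
      apply adj_of_dvd_orderOf (⟨_, h1⟩ : H)
      · rw [← Subgroup.orderOf_coe]
        change a ∣ orderOf (γ⁻¹ * g * γ)
        rw [h4]
        exact Dvd.intro _ rfl
      · rw [← Subgroup.orderOf_coe]
        change b ∣ orderOf (γ⁻¹ * g * γ)
        rw [h4]
        exact Dvd.intro_left _ rfl
    tri := by
      intro a ha b hb c hc hab hac hbc x y z hx hy hz hxy hxz hyz
      have hap := hprime a (hsub ha)
      have hbp := hprime b (hsub hb)
      have hcp := hprime c (hsub hc)
      have hx' : orderOf (x : G) = a := (Subgroup.orderOf_coe x).trans hx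
      have hy' : orderOf (y : G) = b := (Subgroup.orderOf_coe y).trans hy
      have hz' : orderOf (z : G) = c := (Subgroup.orderOf_coe z).trans hz
      have hxy' : (x : G) * y = y * x := congrArg Subtype.val hxy
      have hxz' : (x : G) * z = z * x := congrArg Subtype.val hxz
      have hyz' : (y : G) * z = z * y := congrArg Subtype.val hyz
      refine h3 a (hsub ha) b (hsub hb) c (hsub hc) hab hbc hac ((x : G) * y * z) ?_
      have h1 := orderOf_mul_of_comm hap hbp hab hx' hy' hxy'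
      have hc1 : Commute ((x : G) * y) z := by
        show (x : G) * y * z = z * (x * y)
        calc (x : G) * y * z = x * (y * z) := by group
          _ = x * (z * y) := by rw [hyz']
          _ = (x * z) * y := by group
          _ = (z * x) * y := by rw [hxz']
          _ = z * (x * y) := by group
      have hcop : Nat.Coprime (orderOf ((x : G) * y)) (orderOf (z : G)) := by
        rw [h1, hz']
        exact Nat.Coprime.mul_left ((Nat.coprime_primes hap hcp).mpr hac)
          ((Nat.coprime_primes hbp hcp).mpr hbc)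
      rw [hc1.orderOf_mul_eq_mul_orderOf_of_coprime hcop, h1, hz'] }
  exact hC.false

end Final

end Cfsg.Agent.Lib.FourP
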